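import Mathlib
import Cfsg.Prelude.Def_OddOrderLocal
import Cfsg.Prelude.Def_Solvable
import Cfsg.Prelude.Def_LieExceptional

/-!
# Groups in which all element centralizers are T.I. (helper95, S4064)

Common definitions.  `TIC G` is the hypothesis of S4064.  A *block* is a non-trivial nilpotent
subgroup containing the centralizers of its non-identity elements; under `TIC G` the blocks
partition the non-identity elements of `G`.
-/

set_option autoImplicit false

namespace Cfsg.Agent.Helper95.TICent

variable {G : Type*} [Group G]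

/-- The hypothesis of S4064: every element centralizer is a T.I. subset. -/
def TIC (G : Type*) [Group G] : Prop :=
  ∀ x : G, Cfsg.IsTISubset (Subgroup.centralizer ({x} : Set G) : Set G)

/-- The basic use of `TIC`: an element conjugating a non-identity element of `C(x)` into `C(x)`
normalizes `C(x)`. -/
theorem TIC.mem_normalizer (h : TIC G) {x y g : G}
    (hy : y ∈ Subgroup.centralizer ({x} : Set G)) (hy1 : y ≠ 1)
    (hg : g * y * g⁻¹ ∈ Subgroup.centralizer ({x} : Set G)) :
    g ∈ Subgroup.normalizer ((Subgroup.centralizer ({x} : Set G) : Subgroup G) : Set G) := by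
  by_contra hgn
  exact hy1 (h x g hgn y hy hg)

/-- `C(y) ≤ N(C(x))` for `1 ≠ y ∈ C(x)`. -/
theorem TIC.centralizer_le_normalizer (h : TIC G) {x y : G}
    (hy : y ∈ Subgroup.centralizer ({x} : Set G)) (hy1 : y ≠ 1) :
    Subgroup.centralizer ({y} : Set G) ≤
      Subgroup.normalizer ((Subgroup.centralizer ({x} : Set G) : Subgroup G) : Set G) := by
  intro g hg
  apply h.mem_normalizer hy hy1
  have h1 : g * y = y * g := Subgroup.mem_centralizer_singleton_iff.mp hg
  have h2 : g * y * g⁻¹ = y := by rw [h1]; group
  rw [h2]
  exact hy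

/-- A block: a non-trivial nilpotent subgroup containing the centralizers of its non-identity
elements. -/
structure IsBlock (M : Subgroup G) : Prop where
  ne_bot : M ≠ ⊥
  nil : Group.IsNilpotent M
  cent : ∀ x ∈ M, x ≠ 1 → Subgroup.centralizer ({x} : Set G) ≤ M

/-- An element commuting with a non-identity element of a block lies in the block. -/
theorem IsBlock.mem_of_commute {M : Subgroup G} (hM : IsBlock M) {k x : G} (hk : k ∈ M)
    (hk1 : k ≠ 1) (hx : x * k = k * x) : x ∈ M := by
  apply hM.cent k hk hk1
  rw [Subgroup.mem_centralizer_singleton_iff]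
  exact hx

/-- Elements of `N(M) \ M` act fixed-point-freely on a block `M`. -/
theorem IsBlock.fpf {M : Subgroup G} (hM : IsBlock M) {g x : G} (hg : g ∉ M) (hx : x ∈ M)
    (hgx : g * x * g⁻¹ = x) : x = 1 := by
  by_contra hx1
  apply hg
  apply hM.mem_of_commute hx hx1
  calc g * x = g * x * g⁻¹ * g := by group
    _ = x * g := by rw [hgx]

/-- The conclusion of S4064. -/
def Conclusion (G : Type*) [Group G] : Prop :=
  Group.IsNilpotent G ∨
    (∃ H : Subgroup G, Cfsg.IsFrobeniusComplement H ∧
      (IsCyclic H ∨ ∃ m : ℕ, Odd m ∧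
        Nonempty (H ≃* Multiplicative (ZMod m) × QuaternionGroup 2))) ∨
    (∃ n : ℕ, 2 ≤ n ∧
      Nonempty (G ≃* Matrix.ProjectiveSpecialLinearGroup (Fin 2) (GaloisField 2 n)))

end Cfsg.Agent.Helper95.TICent
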