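import Mathlib
import Cfsg.Agent.Helper95.TIC.SE1
import Cfsg.Agent.Helper21.SE2
import Cfsg.Agent.Helper74.CharCount

/-!
# Blocks of even order in `TIC`-groups (helper95, S4064), part 2

Adapted from `Helper95/CTGroup2.lean`: all involutions are conjugate and `N` contains
`|N : C_G(t)|` of them.
-/

set_option autoImplicit false
set_option linter.unusedSectionVars false
set_option linter.style.haveILetI false

namespace Cfsg.Agent.Helper95.TICent

open Cfsg Cfsg.Agent.Helper75 Cfsg.Agent.Helper21 Cfsg.Agent.Helper4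

universe u

namespace BData

variable {G : Type u} [Group G] (c : BData G) [Finite G]

include c

theorem exists_u : ∃ u : G, orderOf u = 2 ∧ u ∉ c.N :=
  IsStronglyEmbedded.exists_invol_not_mem c.stronglyEmbedded

theorem isConj_invol {a b : G} (ha : orderOf a = 2) (hb : orderOf b = 2) : IsConj a b := by
  obtain ⟨u, hu, huN⟩ := c.exists_u
  exact IsStronglyEmbedded.isConj_of_invol c.stronglyEmbedded hu huN ha hb

/-- The number of involutions of `N` is `|N : C_G(t)|`. -/
theorem card_invol_N : Nat.card {s : G // orderOf s = 2 ∧ s ∈ c.N} =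
    ((Subgroup.centralizer ({c.t} : Set G)).subgroupOf
      (Subgroup.normalizer (c.A : Set G))).index := by
  classical
  obtain ⟨u, hu, huN⟩ := c.exists_u
  let t' : ↥(Subgroup.normalizer (c.A : Set G)) := ⟨c.t, c.t_mem_N⟩
  have hcent : Subgroup.centralizer ({t'} : Set ↥(Subgroup.normalizer (c.A : Set G)))
      = (Subgroup.centralizer ({c.t} : Set G)).subgroupOf
        (Subgroup.normalizer (c.A : Set G)) := by
    ext x
    rw [Subgroup.mem_centralizer_singleton_iff, Subgroup.mem_subgroupOf]
    show _ ↔ (x : G) ∈ Subgroup.centralizer ({c.t} : Set G)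
    rw [Subgroup.mem_centralizer_singleton_iff]
    constructor
    · intro h
      exact congrArg Subtype.val h
    · intro h
      exact Subtype.ext h
  have h1 := Helper74.card_isConj_eq_index t'
  rw [hcent] at h1
  rw [← h1]
  let f : {s : G // orderOf s = 2 ∧ s ∈ c.N} →
      {x : ↥(Subgroup.normalizer (c.A : Set G)) // IsConj x t'} := fun s =>
    ⟨⟨s.1, s.2.2⟩, by
      obtain ⟨d, hd, hds⟩ := IsStronglyEmbedded.exists_conj_inf c.stronglyEmbedded hu huN
        s.2.1 s.2.2 c.ht c.t_mem_N
      rw [isConj_iff]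
      exact ⟨⟨d, hd.1⟩, Subtype.ext hds⟩⟩
  have hf : Function.Bijective f := by
    constructor
    · intro s₁ s₂ h
      have := congrArg (fun x : {x : ↥(Subgroup.normalizer (c.A : Set G)) // IsConj x t'} =>
        ((x.1 : ↥(Subgroup.normalizer (c.A : Set G))) : G)) h
      exact Subtype.ext this
    · rintro ⟨x, hx⟩
      obtain ⟨d, hd⟩ := isConj_iff.mp hx
      have hd' : (d : G) * (x : G) * (d : G)⁻¹ = c.t := congrArg Subtype.val hd
      have hx2 : orderOf (x : G) = 2 := by
        have : (x : G) = (d : G)⁻¹ * c.t * (d : G) := by rw [← hd']; group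
        rw [this, orderOf_conj_eq', c.ht]
      exact ⟨⟨x.1, hx2, x.2⟩, rfl⟩
  exact Nat.card_congr (Equiv.ofBijective f hf)

/-- `|N : C_G(t)| = |N : A| * |A : C_G(t)|`. -/
theorem card_invol_N' : Nat.card {s : G // orderOf s = 2 ∧ s ∈ c.N} =
    (Subgroup.centralizer ({c.t} : Set G)).relIndex c.A * caE c.A := by
  rw [c.card_invol_N]
  unfold caE
  exact (Subgroup.relIndex_mul_relIndex _ _ _ c.cent_t_le Subgroup.le_normalizer).symm

end BData

end Cfsg.Agent.Helper95.TICent
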