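import Mathlib
import Cfsg.Agent.Helper95.TIC.SE2

/-!
# Blocks of even order in `TIC`-groups (helper95, S4064), part 3

Adapted from `Helper95/CTGroup3.lean`.  For an involution `u ∉ N` the subgroup `D = N ∩ N^u` is an
abelian complement to `A` in `N` inverted by `u`; moreover `A = C_G(t)`.
-/

set_option autoImplicit false
set_option linter.unusedSectionVars false
set_option linter.style.haveILetI false

namespace Cfsg.Agent.Helper95.TICent

open Cfsg Cfsg.Agent.Helper75 Cfsg.Agent.Helper21 Cfsg.Agent.Helper4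

universe u

namespace BData

variable {G : Type u} [Group G] (c : BData G)

/-- `D_u = N ∩ u N u⁻¹`. -/
def Dsub (u : G) : Subgroup G := c.N ⊓ c.N.map (MulAut.conj u).toMonoidHom

theorem mem_Dsub {u d : G} : d ∈ c.Dsub u ↔ d ∈ c.N ∧ u⁻¹ * d * u ∈ c.N :=
  mem_inf_conj c.N u d

theorem mem_N_iff {g : G} : g ∈ c.N ↔ ∀ h, h ∈ c.A ↔ g * h * g⁻¹ ∈ c.A :=
  Subgroup.mem_normalizer_iff

theorem conj_mem_A {g a : G} (hg : g ∈ c.N) (ha : a ∈ c.A) : g * a * g⁻¹ ∈ c.A :=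
  (c.mem_N_iff.mp hg a).mp ha

theorem conj_mem_A' {g a : G} (hg : g ∈ c.N) (ha : a ∈ c.A) : g⁻¹ * a * g ∈ c.A := by
  have := c.conj_mem_A (c.N.inv_mem hg) ha
  simpa using this

variable [Finite G]

section Fix

variable {u : G} (hu : orderOf u = 2) (huN : u ∉ c.N)

include hu huN

/-- `D_u ∩ A = 1`. -/
theorem Dsub_inf_A {b : G} (hbD : b ∈ c.Dsub u) (hbA : b ∈ c.A) : b = 1 := by
  by_contra hb1
  have hui : u⁻¹ = u := invol_inv hu
  have huu : u * u = 1 := sq_one_of_orderOf_two hu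
  obtain ⟨hbN, hb'N0⟩ := c.mem_Dsub.mp hbD
  have hb'N : u * b * u⁻¹ ∈ c.N := by
    have : u⁻¹ * b * u = u * b * u⁻¹ := by rw [hui]
    rw [← this]; exact hb'N0
  have h1 : b * (u * b * u⁻¹) * b⁻¹ * (u * b * u⁻¹)⁻¹ ∈ c.A := by
    have h2 := c.conj_mem_A hb'N (c.A.inv_mem hbA)
    have : b * (u * b * u⁻¹) * b⁻¹ * (u * b * u⁻¹)⁻¹
        = b * ((u * b * u⁻¹) * b⁻¹ * (u * b * u⁻¹)⁻¹) := by group
    rw [this]; exact c.A.mul_mem hbA h2
  have h3 : u * (b * (u * b * u⁻¹) * b⁻¹ * (u * b * u⁻¹)⁻¹) * u⁻¹ ∈ c.A := by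
    have h4 := c.conj_mem_A hb'N hbA
    have e : u * (b * (u * b * u⁻¹) * b⁻¹ * (u * b * u⁻¹)⁻¹) * u⁻¹
        = (u * b * u⁻¹) * ((u * u) * b * (u * u)⁻¹) * (u * b * u⁻¹)⁻¹
          * ((u * u) * b * (u * u)⁻¹)⁻¹ := by group
    rw [e, huu]
    simp only [one_mul, inv_one, mul_one]
    exact c.A.mul_mem h4 (c.A.inv_mem hbA)
  have h5 := c.hTI u huN _ h1 h3
  have h6 : (u * b * u⁻¹) * b = b * (u * b * u⁻¹) := by
    have : b * (u * b * u⁻¹)
        = (b * (u * b * u⁻¹) * b⁻¹ * (u * b * u⁻¹)⁻¹) * ((u * b * u⁻¹) * b) := by group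
    rw [h5, one_mul] at this
    exact this.symm
  have h7 : u * b * u⁻¹ ∈ c.A := c.mem_A_of_commute hbA hb1 h6
  exact hb1 (c.hTI u huN b hbA h7)

/-- The elements of `N` inverted by `u` lie in `D_u`. -/
theorem mem_Dsub_of_inverted {d : G} (hdN : d ∈ c.N) (hd : u * d * u⁻¹ = d⁻¹) :
    d ∈ c.Dsub u := by
  have hui : u⁻¹ = u := invol_inv hu
  rw [c.mem_Dsub]
  refine ⟨hdN, ?_⟩
  have : u⁻¹ * d * u = u * d * u⁻¹ := by rw [hui]
  rw [this, hd]
  exact c.N.inv_mem hdN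

/-- The number of elements of `N` inverted by `u`. -/
theorem card_inverted0 :
    Nat.card {d : G // d ∈ c.N ∧ u * d * u⁻¹ = d⁻¹} =
      Nat.card {s : G // orderOf s = 2 ∧ s ∈ c.N} := by
  have hui : u⁻¹ = u := invol_inv hu
  have huu : u * u = 1 := sq_one_of_orderOf_two hu
  rw [← Nat.card_congr (IsStronglyEmbedded.involEquiv c.stronglyEmbedded huN c.ht c.t_mem_N)]
  apply Nat.card_congr
  refine ⟨fun d => ⟨u * d.1, ?_, ?_⟩, fun j => ⟨u⁻¹ * j.1, j.2.2, ?_⟩, ?_, ?_⟩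
  · -- order 2
    obtain ⟨d, hdN, hd⟩ := d
    have h1 : (u * d) ^ 2 = 1 := by
      have : (u * d) ^ 2 = (u * d * u⁻¹) * ((u * u) * d) := by rw [pow_two]; group
      rw [this, hd, huu, one_mul, inv_mul_cancel]
    have h2 : u * d ≠ 1 := by
      intro h
      apply huN
      have : u = d⁻¹ := eq_inv_of_mul_eq_one_left h
      rw [this]
      exact c.N.inv_mem hdN
    exact orderOf_eq_prime h1 h2
  · obtain ⟨d, hdN, hd⟩ := d
    show u⁻¹ * (u * d) ∈ c.N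
    rw [inv_mul_cancel_left]
    exact hdN
  · obtain ⟨j, hj2, hjN⟩ := j
    have hji : j⁻¹ = j := invol_inv hj2
    show u * (u⁻¹ * j) * u⁻¹ = (u⁻¹ * j)⁻¹
    have e1 : u * (u⁻¹ * j) * u⁻¹ = j * u⁻¹ := by group
    have e2 : (u⁻¹ * j)⁻¹ = j⁻¹ * u := by group
    rw [e1, e2, hji, hui]
  · intro d
    apply Subtype.ext
    show u⁻¹ * (u * d.1) = d.1
    group
  · intro j
    apply Subtype.ext
    show u * (u⁻¹ * j.1) = j.1
    group

/-- The elements inverted by `u` lie in different cosets of `A` in `N`. -/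
theorem inverted_inj :
    Function.Injective (fun d : {d : G // d ∈ c.N ∧ u * d * u⁻¹ = d⁻¹} =>
      ((⟨d.1, d.2.1⟩ : ↥(Subgroup.normalizer (c.A : Set G))) :
        ↥(Subgroup.normalizer (c.A : Set G)) ⧸
          (c.A.subgroupOf (Subgroup.normalizer (c.A : Set G))))) := by
  intro d₁ d₂ h
  have h1 : (⟨d₁.1, d₁.2.1⟩ : ↥(Subgroup.normalizer (c.A : Set G)))⁻¹ * ⟨d₂.1, d₂.2.1⟩
      ∈ c.A.subgroupOf (Subgroup.normalizer (c.A : Set G)) := QuotientGroup.eq.mp h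
  rw [Subgroup.mem_subgroupOf] at h1
  have h2 : d₁.1⁻¹ * d₂.1 ∈ c.A := h1
  have h3 : d₁.1⁻¹ * d₂.1 ∈ c.Dsub u :=
    (c.Dsub u).mul_mem ((c.Dsub u).inv_mem (c.mem_Dsub_of_inverted hu huN d₁.2.1 d₁.2.2))
      (c.mem_Dsub_of_inverted hu huN d₂.2.1 d₂.2.2)
  have h4 := c.Dsub_inf_A hu huN h3 h2
  apply Subtype.ext
  exact (inv_mul_eq_one.mp h4)

/-- The number of involutions of `N` is at most `|N : A|`. -/
theorem card_invol_N_le : Nat.card {s : G // orderOf s = 2 ∧ s ∈ c.N} ≤ caE c.A := by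
  rw [← c.card_inverted0 hu huN]
  have := Nat.card_le_card_of_injective _ (c.inverted_inj hu huN)
  unfold caE
  exact this

/-- `A ≤ C_G(t)`: the involution `t` is central in `A`. -/
theorem relIndex_cent_t : (Subgroup.centralizer ({c.t} : Set G)).relIndex c.A = 1 := by
  have h1 := c.card_invol_N_le hu huN
  rw [c.card_invol_N'] at h1
  have h2 : 0 < caE c.A := Nat.pos_of_ne_zero (fun h => by
    have := c.odd_caE
    rw [h] at this
    exact absurd this (by decide))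
  have h3 : (Subgroup.centralizer ({c.t} : Set G)).relIndex c.A ≠ 0 := by
    intro h0
    unfold Subgroup.relIndex at h0
    exact Subgroup.index_ne_zero_of_finite h0
  by_contra hne
  have h4 : 2 ≤ (Subgroup.centralizer ({c.t} : Set G)).relIndex c.A := by omega
  nlinarith

theorem A_le_cent_t : c.A ≤ Subgroup.centralizer ({c.t} : Set G) :=
  Subgroup.relIndex_eq_one.mp (c.relIndex_cent_t hu huN)

/-- The number of involutions of `N`. -/
theorem card_invol_N_eq : Nat.card {s : G // orderOf s = 2 ∧ s ∈ c.N} = caE c.A := by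
  rw [c.card_invol_N', c.relIndex_cent_t hu huN, one_mul]

/-- The number of elements of `N` inverted by `u`. -/
theorem card_inverted :
    Nat.card {d : G // d ∈ c.N ∧ u * d * u⁻¹ = d⁻¹} = caE c.A := by
  rw [c.card_inverted0 hu huN, c.card_invol_N_eq hu huN]

/-- The elements inverted by `u` represent all cosets of `A` in `N`, and `u` inverts `D_u`. -/
theorem inverted_bij :
    Function.Bijective (fun d : {d : G // d ∈ c.N ∧ u * d * u⁻¹ = d⁻¹} =>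
      ((⟨d.1, d.2.1⟩ : ↥(Subgroup.normalizer (c.A : Set G))) :
        ↥(Subgroup.normalizer (c.A : Set G)) ⧸
          (c.A.subgroupOf (Subgroup.normalizer (c.A : Set G))))) := by
  apply Function.Injective.bijective_of_nat_card_le (c.inverted_inj hu huN)
  rw [c.card_inverted hu huN]
  unfold caE
  exact le_of_eq rfl

/-- `u` inverts `D_u`. -/
theorem Dsub_inverted {d : G} (hd : d ∈ c.Dsub u) : u * d * u⁻¹ = d⁻¹ := by
  obtain ⟨d₁, hd₁⟩ := (c.inverted_bij hu huN).2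
    ((⟨d, (c.mem_Dsub.mp hd).1⟩ : ↥(Subgroup.normalizer (c.A : Set G))) : _)
  have h1 : (⟨d₁.1, d₁.2.1⟩ : ↥(Subgroup.normalizer (c.A : Set G)))⁻¹
        * ⟨d, (c.mem_Dsub.mp hd).1⟩
      ∈ c.A.subgroupOf (Subgroup.normalizer (c.A : Set G)) := QuotientGroup.eq.mp hd₁
  rw [Subgroup.mem_subgroupOf] at h1
  have h2 : d₁.1⁻¹ * d ∈ c.A := h1
  have h3 : d₁.1⁻¹ * d ∈ c.Dsub u :=
    (c.Dsub u).mul_mem ((c.Dsub u).inv_mem (c.mem_Dsub_of_inverted hu huN d₁.2.1 d₁.2.2)) hd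
  have h4 := c.Dsub_inf_A hu huN h3 h2
  have h5 : d = d₁.1 := (inv_mul_eq_one.mp h4).symm
  rw [h5]
  exact d₁.2.2

/-- `N = D_u A`. -/
theorem exists_Dsub_mul_A {n : G} (hn : n ∈ c.N) :
    ∃ d ∈ c.Dsub u, ∃ x ∈ c.A, n = d * x := by
  obtain ⟨d₁, hd₁⟩ := (c.inverted_bij hu huN).2
    ((⟨n, hn⟩ : ↥(Subgroup.normalizer (c.A : Set G))) : _)
  have h1 : (⟨d₁.1, d₁.2.1⟩ : ↥(Subgroup.normalizer (c.A : Set G)))⁻¹ * ⟨n, hn⟩
      ∈ c.A.subgroupOf (Subgroup.normalizer (c.A : Set G)) := QuotientGroup.eq.mp hd₁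
  rw [Subgroup.mem_subgroupOf] at h1
  have h2 : d₁.1⁻¹ * n ∈ c.A := h1
  exact ⟨d₁.1, c.mem_Dsub_of_inverted hu huN d₁.2.1 d₁.2.2, d₁.1⁻¹ * n, h2, by group⟩

/-- `|D_u| = |N : A|`. -/
theorem card_Dsub : Nat.card (c.Dsub u) = caE c.A := by
  rw [← c.card_inverted hu huN]
  apply Nat.card_congr
  refine ⟨fun d => ⟨d.1, (c.mem_Dsub.mp d.2).1, c.Dsub_inverted hu huN d.2⟩,
    fun d => ⟨d.1, c.mem_Dsub_of_inverted hu huN d.2.1 d.2.2⟩, fun d => rfl, fun d => rfl⟩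

/-- `D_u` is abelian. -/
theorem Dsub_comm {d₁ d₂ : G} (h₁ : d₁ ∈ c.Dsub u) (h₂ : d₂ ∈ c.Dsub u) :
    d₁ * d₂ = d₂ * d₁ := by
  have e1 := c.Dsub_inverted hu huN h₁
  have e2 := c.Dsub_inverted hu huN h₂
  have e3 := c.Dsub_inverted hu huN ((c.Dsub u).mul_mem h₁ h₂)
  have e4 : u * (d₁ * d₂) * u⁻¹ = (u * d₁ * u⁻¹) * (u * d₂ * u⁻¹) := by group
  rw [e4, e1, e2, mul_inv_rev] at e3
  -- d₁⁻¹ d₂⁻¹ = d₂⁻¹ d₁⁻¹
  have : (d₁ * d₂)⁻¹ = (d₂ * d₁)⁻¹ := by
    rw [mul_inv_rev, mul_inv_rev]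
    exact e3.symm
  exact inv_injective this

/-- A non-identity element of `D_u` commutes with no non-identity element of `A`. -/
theorem eq_one_of_commute_Dsub {d x : G} (hd : d ∈ c.Dsub u) (hd1 : d ≠ 1) (hx : x ∈ c.A)
    (hxd : x * d = d * x) : x = 1 := by
  by_contra hx1
  have h1 : d ∈ c.A := c.mem_A_of_commute hx hx1 hxd.symm
  exact hd1 (c.Dsub_inf_A hu huN hd h1)

end Fix

end BData

end Cfsg.Agent.Helper95.TICent
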