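import Mathlib
import Cfsg.Agent.Helper95.TIC.SE3

/-!
# Blocks of even order in `TIC`-groups (helper95, S4064), part 4

Adapted from `Helper95/CTGroup4.lean`: `N` (indeed `A`) acts transitively on the cosets different
from `N`, and `|G : N| = |A| + 1`.
-/

set_option autoImplicit false
set_option linter.unusedSectionVars false
set_option linter.style.haveILetI false

namespace Cfsg.Agent.Helper95.TICent

open Cfsg Cfsg.Agent.Helper75 Cfsg.Agent.Helper21 Cfsg.Agent.Helper4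

universe u

namespace BData

variable {G : Type u} [Group G] (c : BData G) [Finite G]

section Fix

variable {u : G} (hu : orderOf u = 2) (huN : u ∉ c.N) (hw : 2 ≤ caE c.A)

include hu huN hw

theorem exists_ne_one_Dsub : ∃ d ∈ c.Dsub u, d ≠ 1 := by
  have h1 := c.card_Dsub hu huN
  have h2 : 1 < Nat.card (c.Dsub u) := by omega
  have h3 : Nontrivial (c.Dsub u) := Finite.one_lt_card_iff_nontrivial.mp h2
  exact (Subgroup.nontrivial_iff_exists_ne_one _).mp h3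

/-- `N_N(D_u) = D_u`. -/
theorem mem_Dsub_of_normalize {n : G} (hn : n ∈ c.N)
    (hnD : ∀ d ∈ c.Dsub u, n * d * n⁻¹ ∈ c.Dsub u) : n ∈ c.Dsub u := by
  obtain ⟨d₁, hd₁, x, hx, hnx⟩ := c.exists_Dsub_mul_A hu huN hn
  obtain ⟨d, hd, hd1⟩ := c.exists_ne_one_Dsub hu huN hw
  have hdN : d ∈ c.N := (c.mem_Dsub.mp hd).1
  have h1 : x * d * x⁻¹ ∈ c.Dsub u := by
    have : x * d * x⁻¹ = d₁⁻¹ * (n * d * n⁻¹) * d₁ := by rw [hnx]; group
    rw [this]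
    exact (c.Dsub u).mul_mem ((c.Dsub u).mul_mem ((c.Dsub u).inv_mem hd₁) (hnD d hd)) hd₁
  have h2 : x * d * x⁻¹ * d⁻¹ ∈ c.Dsub u := (c.Dsub u).mul_mem h1 ((c.Dsub u).inv_mem hd)
  have h3 : x * d * x⁻¹ * d⁻¹ ∈ c.A := by
    have : x * d * x⁻¹ * d⁻¹ = x * (d * x⁻¹ * d⁻¹) := by group
    rw [this]
    exact c.A.mul_mem hx (c.conj_mem_A hdN (c.A.inv_mem hx))
  have h4 := c.Dsub_inf_A hu huN h2 h3
  have h5 : x * d = d * x := by
    have : x * d = (x * d * x⁻¹ * d⁻¹) * (d * x) := by group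
    rw [h4, one_mul] at this
    exact this
  have h6 := c.eq_one_of_commute_Dsub hu huN hd hd1 hx h5
  rw [hnx, h6, mul_one]
  exact hd₁

/-- An element outside `N` normalizing `D_u` inverts it. -/
theorem invert_of_normalize {g : G} (hgN : g ∉ c.N)
    (hg2 : ∀ d ∈ c.Dsub u, g⁻¹ * d * g ∈ c.Dsub u) :
    ∀ d ∈ c.Dsub u, g * d * g⁻¹ = d⁻¹ := by
  obtain ⟨v, hv2, hvg, hvN⟩ := IsStronglyEmbedded.exists_invol_coset c.stronglyEmbedded hgN
  have hle : c.Dsub u ≤ c.Dsub v := by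
    intro d hd
    rw [c.mem_Dsub]
    refine ⟨(c.mem_Dsub.mp hd).1, ?_⟩
    have : v⁻¹ * d * v = (g⁻¹ * v)⁻¹ * (g⁻¹ * d * g) * (g⁻¹ * v) := by group
    rw [this]
    exact c.N.mul_mem (c.N.mul_mem (c.N.inv_mem hvg) (c.mem_Dsub.mp (hg2 d hd)).1) hvg
  have heq : c.Dsub u = c.Dsub v :=
    Subgroup.eq_of_le_of_card_ge hle (by rw [c.card_Dsub hv2 hvN, c.card_Dsub hu huN])
  have hnD : g⁻¹ * v ∈ c.Dsub u := by
    apply c.mem_Dsub_of_normalize hu huN hw hvg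
    intro d hd
    have hdv : d ∈ c.Dsub v := heq ▸ hd
    have h1 := c.Dsub_inverted hv2 hvN hdv
    have : g⁻¹ * v * d * (g⁻¹ * v)⁻¹ = g⁻¹ * (v * d * v⁻¹) * g := by group
    rw [this, h1]
    exact hg2 _ ((c.Dsub u).inv_mem hd)
  intro d hd
  have hdv : d ∈ c.Dsub v := heq ▸ hd
  have h1 := c.Dsub_inverted hv2 hvN hdv
  have h2 := c.Dsub_comm hu huN hnD hd
  have h3 : (g⁻¹ * v)⁻¹ * d * (g⁻¹ * v) = d := by
    rw [mul_assoc, ← h2]
    group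
  have : g * d * g⁻¹ = v * ((g⁻¹ * v)⁻¹ * d * (g⁻¹ * v)) * v⁻¹ := by group
  rw [this, h3, h1]

end Fix

section Two

variable {u u' : G} (hu : orderOf u = 2) (huN : u ∉ c.N) (hu' : orderOf u' = 2)
  (hu'N : u' ∉ c.N)

include hu huN hu' hu'N

theorem conj_Dsub_le {x d d' : G} (hx : x ∈ c.A) (hd : d ∈ c.Dsub u) (hd1 : d ≠ 1)
    (hd' : d' ∈ c.Dsub u') (hxd : x * d * x⁻¹ = d') :
    ∀ e ∈ c.Dsub u', x⁻¹ * e * x ∈ c.Dsub u := by
  intro e he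
  have hxN : x ∈ c.N := c.A_le_N hx
  have heN : e ∈ c.N := (c.mem_Dsub.mp he).1
  have h1 : x⁻¹ * e * x ∈ c.N := c.N.mul_mem (c.N.mul_mem (c.N.inv_mem hxN) heN) hxN
  obtain ⟨e₁, he₁, y, hy, hey⟩ := c.exists_Dsub_mul_A hu huN h1
  -- `x⁻¹ e x` commutes with `d = x⁻¹ d' x`
  have h2 : e * d' = d' * e := c.Dsub_comm hu' hu'N he hd'
  have h3 : (x⁻¹ * e * x) * d = d * (x⁻¹ * e * x) := by
    have hd_eq : d = x⁻¹ * d' * x := by rw [← hxd]; group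
    rw [hd_eq]
    calc x⁻¹ * e * x * (x⁻¹ * d' * x) = x⁻¹ * (e * d') * x := by group
      _ = x⁻¹ * (d' * e) * x := by rw [h2]
      _ = x⁻¹ * d' * x * (x⁻¹ * e * x) := by group
  have h4 : e₁ * d = d * e₁ := c.Dsub_comm hu huN he₁ hd
  have h5 : y * d = d * y := by
    have hy_eq : y = e₁⁻¹ * (x⁻¹ * e * x) := by rw [hey]; group
    rw [hy_eq]
    calc e₁⁻¹ * (x⁻¹ * e * x) * d = e₁⁻¹ * ((x⁻¹ * e * x) * d) := by group
      _ = e₁⁻¹ * (d * (x⁻¹ * e * x)) := by rw [h3]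
      _ = e₁⁻¹ * (d * e₁) * e₁⁻¹ * (x⁻¹ * e * x) := by group
      _ = e₁⁻¹ * (e₁ * d) * e₁⁻¹ * (x⁻¹ * e * x) := by rw [h4]
      _ = d * (e₁⁻¹ * (x⁻¹ * e * x)) := by group
  have h6 := c.eq_one_of_commute_Dsub hu huN hd hd1 hy h5
  rw [hey, h6, mul_one]
  exact he₁

variable (hw : 2 ≤ caE c.A)

include hw

/-- The complements `D_u` and `D_{u'}` are conjugate by an element of `A`. -/
theorem exists_conj_Dsub : ∃ x ∈ c.A, ∀ d ∈ c.Dsub u, x * d * x⁻¹ ∈ c.Dsub u' := by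
  obtain ⟨d', hd', hd'1⟩ := c.exists_ne_one_Dsub hu' hu'N hw
  have hd'N : d' ∈ c.N := (c.mem_Dsub.mp hd').1
  obtain ⟨d, hd, y, hy, hdy⟩ := c.exists_Dsub_mul_A hu huN hd'N
  have hdN : d ∈ c.N := (c.mem_Dsub.mp hd).1
  have hd1 : d ≠ 1 := by
    intro h
    rw [h, one_mul] at hdy
    rw [hdy] at hd' hd'1
    exact hd'1 (c.Dsub_inf_A hu' hu'N hd' hy)
  let φ : ↥c.A → ↥c.A := fun x => ⟨d⁻¹ * x.1 * d * x.1⁻¹,
    c.A.mul_mem (c.conj_mem_A' hdN x.2) (c.A.inv_mem x.2)⟩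
  have hφ : Function.Injective φ := by
    intro x₁ x₂ h
    have h1 : d⁻¹ * x₁.1 * d * x₁.1⁻¹ = d⁻¹ * x₂.1 * d * x₂.1⁻¹ := congrArg Subtype.val h
    have h2 : (x₂.1⁻¹ * x₁.1) * d = d * (x₂.1⁻¹ * x₁.1) := by
      have e1 : x₁.1 * d * x₁.1⁻¹ = x₂.1 * d * x₂.1⁻¹ := by
        have : x₁.1 * d * x₁.1⁻¹ = d * (d⁻¹ * x₁.1 * d * x₁.1⁻¹) := by group
        rw [this, h1]; group
      calc x₂.1⁻¹ * x₁.1 * d = x₂.1⁻¹ * (x₁.1 * d * x₁.1⁻¹) * x₁.1 := by group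
        _ = x₂.1⁻¹ * (x₂.1 * d * x₂.1⁻¹) * x₁.1 := by rw [e1]
        _ = d * (x₂.1⁻¹ * x₁.1) := by group
    have h3 := c.eq_one_of_commute_Dsub hu huN hd hd1
      (c.A.mul_mem (c.A.inv_mem x₂.2) x₁.2) h2
    apply Subtype.ext
    exact (inv_mul_eq_one.mp h3).symm
  obtain ⟨x, hx⟩ := (Finite.injective_iff_surjective.mp hφ) ⟨y, hy⟩
  have hx' : d⁻¹ * x.1 * d * x.1⁻¹ = y := congrArg Subtype.val hx
  have hxd : x.1 * d * x.1⁻¹ = d' := by
    rw [hdy, ← hx']; group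
  refine ⟨x.1, x.2, ?_⟩
  have hxd' : x.1⁻¹ * d' * x.1⁻¹⁻¹ = d := by rw [← hxd]; group
  intro e he
  have := c.conj_Dsub_le hu' hu'N hu huN (c.A.inv_mem x.2) hd' hd'1 hd hxd' e he
  simpa using this

/-- `N` is transitive on the cosets different from `N`. -/
theorem exists_coset : ∃ x ∈ c.A, (x * u)⁻¹ * u' ∈ c.N := by
  obtain ⟨x, hx, hxD⟩ := c.exists_conj_Dsub hu huN hu' hu'N hw
  have hxN : x ∈ c.N := c.A_le_N hx
  have hui : u⁻¹ = u := invol_inv hu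
  refine ⟨x, hx, ?_⟩
  -- `u'' = x⁻¹ u' x` inverts `D_u`
  have hinv : ∀ d ∈ c.Dsub u, (x⁻¹ * u' * x) * d * (x⁻¹ * u' * x)⁻¹ = d⁻¹ := by
    intro d hd
    have h1 := c.Dsub_inverted hu' hu'N (hxD d hd)
    have : (x⁻¹ * u' * x) * d * (x⁻¹ * u' * x)⁻¹ = x⁻¹ * (u' * (x * d * x⁻¹) * u'⁻¹) * x := by
      group
    rw [this, h1]
    group
  -- `g = u u''` centralizes `D_u`
  have hcent : ∀ d ∈ c.Dsub u, (u * (x⁻¹ * u' * x)) * d * (u * (x⁻¹ * u' * x))⁻¹ = d := by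
    intro d hd
    have h1 := hinv d hd
    have h2 := c.Dsub_inverted hu huN ((c.Dsub u).inv_mem hd)
    have : (u * (x⁻¹ * u' * x)) * d * (u * (x⁻¹ * u' * x))⁻¹
        = u * ((x⁻¹ * u' * x) * d * (x⁻¹ * u' * x)⁻¹) * u⁻¹ := by group
    rw [this, h1, h2, inv_inv]
  have hcent' : ∀ d ∈ c.Dsub u, (u * (x⁻¹ * u' * x))⁻¹ * d * (u * (x⁻¹ * u' * x)) = d := by
    intro d hd
    have h1 := hcent d hd
    calc (u * (x⁻¹ * u' * x))⁻¹ * d * (u * (x⁻¹ * u' * x))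
        = (u * (x⁻¹ * u' * x))⁻¹ * ((u * (x⁻¹ * u' * x)) * d * (u * (x⁻¹ * u' * x))⁻¹)
          * (u * (x⁻¹ * u' * x)) := by rw [h1]
      _ = d := by group
  have hgN : u * (x⁻¹ * u' * x) ∈ c.N := by
    by_contra hgN
    have h1 := c.invert_of_normalize hu huN hw hgN
      (fun d hd => by rw [hcent' d hd]; exact hd)
    obtain ⟨d, hd, hd1⟩ := c.exists_ne_one_Dsub hu huN hw
    have h2 : d = d⁻¹ := by rw [← h1 d hd, hcent d hd]
    have h3 : d ^ 2 = 1 := by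
      rw [pow_two]
      nth_rewrite 2 [h2]
      exact mul_inv_cancel d
    have h4 : orderOf d ∣ 2 := orderOf_dvd_of_pow_eq_one h3
    have h5 : orderOf d ∣ Nat.card (c.Dsub u) := by
      have := orderOf_dvd_natCard (⟨d, hd⟩ : c.Dsub u)
      rwa [Subgroup.orderOf_mk] at this
    rw [c.card_Dsub hu huN] at h5
    have h6 : Odd (orderOf d) := Odd.of_dvd_nat c.odd_caE h5
    rcases (Nat.dvd_prime Nat.prime_two).mp h4 with h | h
    · exact hd1 (orderOf_eq_one_iff.mp h)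
    · rw [h] at h6
      exact absurd h6 (by decide)
  have : (x * u)⁻¹ * u' = (u * (x⁻¹ * u' * x)) * x⁻¹ := by
    rw [mul_inv_rev, hui]; group
  rw [this]
  exact c.N.mul_mem hgN (c.N.inv_mem hxN)

end Two

section Index

variable (hw : 2 ≤ caE c.A)

include hw

/-- `|G : N| = |A| + 1`. -/
theorem index_N : c.N.index = Nat.card c.A + 1 := by
  classical
  obtain ⟨u, hu, huN⟩ := c.exists_u
  have hxuN : ∀ x : ↥c.A, (x.1 * u) ∉ c.N := by
    intro x h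
    apply huN
    have : u = x.1⁻¹ * (x.1 * u) := by group
    rw [this]
    exact c.N.mul_mem (c.N.inv_mem (c.A_le_N x.2)) h
  let f : ↥c.A → {q : G ⧸ c.N // q ≠ ((1 : G) : G ⧸ c.N)} := fun x =>
    ⟨((x.1 * u : G) : G ⧸ c.N), by
      intro h
      have h1 : (x.1 * u)⁻¹ * 1 ∈ c.N := QuotientGroup.eq.mp h
      rw [mul_one] at h1
      exact hxuN x (by simpa using c.N.inv_mem h1)⟩
  have hf : Function.Bijective f := by
    constructor
    · intro x₁ x₂ h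
      have h1 : ((x₁.1 * u : G) : G ⧸ c.N) = ((x₂.1 * u : G) : G ⧸ c.N) :=
        congrArg Subtype.val h
      have h2 : (x₁.1 * u)⁻¹ * (x₂.1 * u) ∈ c.N := QuotientGroup.eq.mp h1
      have h3 : x₁.1⁻¹ * x₂.1 ∈ c.A := c.A.mul_mem (c.A.inv_mem x₁.2) x₂.2
      have h4 : x₁.1⁻¹ * x₂.1 ∈ c.Dsub u := by
        rw [c.mem_Dsub]
        refine ⟨c.A_le_N h3, ?_⟩
        have : u⁻¹ * (x₁.1⁻¹ * x₂.1) * u = (x₁.1 * u)⁻¹ * (x₂.1 * u) := by group
        rw [this]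
        exact h2
      have h5 := c.Dsub_inf_A hu huN h4 h3
      apply Subtype.ext
      exact (inv_mul_eq_one.mp h5)
    · rintro ⟨q, hq⟩
      obtain ⟨g, rfl⟩ := QuotientGroup.mk_surjective q
      have hgN : g ∉ c.N := by
        intro h
        apply hq
        exact (QuotientGroup.eq.mpr (by simpa using c.N.inv_mem h))
      obtain ⟨v, hv2, hvg, hvN⟩ := IsStronglyEmbedded.exists_invol_coset c.stronglyEmbedded hgN
      obtain ⟨x, hx, hxv⟩ := c.exists_coset hu huN hv2 hvN hw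
      refine ⟨⟨x, hx⟩, ?_⟩
      apply Subtype.ext
      show ((x * u : G) : G ⧸ c.N) = ((g : G) : G ⧸ c.N)
      rw [QuotientGroup.eq]
      have : (x * u)⁻¹ * g = ((x * u)⁻¹ * v) * (g⁻¹ * v)⁻¹ := by group
      rw [this]
      exact c.N.mul_mem hxv (c.N.inv_mem hvg)
  have h1 : Nat.card ↥c.A = Nat.card {q : G ⧸ c.N // q ≠ ((1 : G) : G ⧸ c.N)} :=
    Nat.card_congr (Equiv.ofBijective f hf)
  have h2 : Nat.card {q : G ⧸ c.N // q ≠ ((1 : G) : G ⧸ c.N)} + 1 = Nat.card (G ⧸ c.N) := by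
    let _ : Fintype (G ⧸ c.N) := Fintype.ofFinite _
    rw [Nat.card_eq_fintype_card, Nat.card_eq_fintype_card, Fintype.card_subtype_compl,
      Fintype.card_subtype_eq]
    have : 0 < Fintype.card (G ⧸ c.N) := Fintype.card_pos
    omega
  show Nat.card (G ⧸ c.N) = _
  rw [← h2, h1]

end Index

end BData

end Cfsg.Agent.Helper95.TICent
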