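import Mathlib
import Cfsg.Agent.Helper95.TIC.SE4

/-!
# Blocks of even order in `TIC`-groups (helper95, S4064), part 5

Summary lemmas: the involutions of `A` are central in `A`, and there are `|N : A|` of them.
-/

set_option autoImplicit false
set_option linter.unusedSectionVars false

namespace Cfsg.Agent.Helper95.TICent

open Cfsg Cfsg.Agent.Helper75 Cfsg.Agent.Helper21 Cfsg.Agent.Helper4

universe u

namespace BData

variable {G : Type u} [Group G] (c : BData G) [Finite G]

/-- Every involution of `A` is central in `A`. -/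
theorem invol_central {s : G} (hs : orderOf s = 2) (hsA : s ∈ c.A) :
    c.A ≤ Subgroup.centralizer ({s} : Set G) := by
  obtain ⟨u, hu, huN⟩ := c.exists_u
  let c' : BData G := { c with t := s, ht := hs, htA := hsA }
  exact c'.A_le_cent_t (u := u) hu huN

/-- Every involution of `A` commutes with every element of `A`. -/
theorem invol_comm {s x : G} (hs : orderOf s = 2) (hsA : s ∈ c.A) (hx : x ∈ c.A) :
    x * s = s * x :=
  Subgroup.mem_centralizer_singleton_iff.mp (c.invol_central hs hsA hx)

/-- The number of involutions of `A` is `|N : A|`. -/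
theorem card_invol_A : Nat.card {s : G // orderOf s = 2 ∧ s ∈ c.A} = caE c.A := by
  obtain ⟨u, hu, huN⟩ := c.exists_u
  rw [← c.card_invol_N_eq hu huN]
  apply Nat.card_congr
  refine Equiv.subtypeEquivRight (fun s => ?_)
  constructor
  · rintro ⟨h1, h2⟩
    exact ⟨h1, c.A_le_N h2⟩
  · rintro ⟨h1, h2⟩
    exact ⟨h1, c.invol_mem_A h1 h2⟩

/-- `3 ≤ |N : A|` as soon as `2 ≤ |N : A|` (it is odd). -/
theorem three_le_caE (hw : 2 ≤ caE c.A) : 3 ≤ caE c.A := by
  have h := c.odd_caE
  rcases h with ⟨k, hk⟩
  omega

end BData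

end Cfsg.Agent.Helper95.TICent
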