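import Mathlib
import Cfsg.Agent.Helper95.TIC.Defs
import Cfsg.Agent.Helper48.TIC_SUB
import Cfsg.Agent.Helper89.TIC_NIL
import Cfsg.Agent.Helper89.TIC_B1
import Cfsg.Agent.Helper42.TIC_B2
import Cfsg.Agent.Helper9.TIC_B3
import Cfsg.Agent.Helper9.TIC_B4
import Cfsg.Agent.Helper34.TIC_B5
import Cfsg.Agent.Helper34.TIC_B6
import Cfsg.Agent.Helper67.TIC_B7
import Cfsg.Agent.Helper60.TIC_SOLV
import Cfsg.Agent.Helper65.TIC_F1
import Cfsg.Agent.Helper60.TIC_F2
import Cfsg.Agent.Helper67.TIC_F3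

/-!
# S4064 (helper95): batch 1 pieces, wired to the files of the helpers who proved them
-/

set_option autoImplicit false

namespace Cfsg.Agent.Helper95.TICent

open Subgroup

variable {G : Type*} [Group G]

/-- (SUB) `TIC` passes to subgroups.
For `x : H`, `C_H(x) = C_G(x) ∩ H`.  If `g ∈ H` normalizes `C_G(x)` then it normalizes `C_H(x)`; so
`g ∉ N_H(C_H(x))` implies `(g : G) ∉ N_G(C_G(x))`, and `TIC G` applies to `(y : G)`. -/
theorem TIC.subgroup (h : TIC G) (H : Subgroup G) : TIC H := by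
  exact Cfsg.Agent.Helper48.TICent.TIC.subgroup h H

/-- (NIL) A finite `TIC`-group with a non-trivial centre is nilpotent.
Since `z ∈ C(x)` and `g z g⁻¹ = z` for all `g`, `TIC.mem_normalizer` gives `C(x) ⊴ G` for every `x`.
Hence every conjugate `g x g⁻¹` lies in `C(x)` and has centralizer `g C(x) g⁻¹ = C(x)`, so any two
conjugates of `x` commute, and `Subgroup.normalClosure {x}` is commutative (closure of a commuting
set), hence nilpotent and normal, so `≤ Cfsg.fittingSubgroup G`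
(`Cfsg.Agent.Lib.Cores.le_fittingSubgroup`).  So `fittingSubgroup G = ⊤`, and it is nilpotent
(`Cfsg.Agent.Lib.Cores.isNilpotent_fittingSubgroup`); transport along `Subgroup.topEquiv`. -/
theorem TIC.nilpotent_of_central [Finite G] (h : TIC G) {z : G} (hz1 : z ≠ 1)
    (hz : ∀ g : G, g * z = z * g) : Group.IsNilpotent G := by
  exact Cfsg.Agent.Helper89.TICent.TIC.nilpotent_of_central h hz1 hz

/-- (B1) The centralizer of a non-identity central element of a Sylow subgroup is a block.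
Let `M = C(z)`, nilpotent by `hCN`; `P ≤ M`, and `P` is the unique Sylow `p`-subgroup of `M`.
(a) `N(M) ≤ N(P)`; (b) `C(y) ≤ N(M)` for `1 ≠ y ∈ M` (`TIC.centralizer_le_normalizer`).
(c) If `1 ≠ y ∈ P`: `C(y) ≤ N(P)`, so the Sylow `p`-subgroup `P_y` of the nilpotent group `C(y)` lies
in `P`, hence commutes with `z`; `z ∈ P_y`; the `p'`-part of `C(y)` commutes with `z` too
(`Cfsg.Agent.Helper65.commute_of_coprime_orderOf`); so `C(y) ≤ C(z) = M`.
(d) General `1 ≠ y ∈ M`: write `y = y_p y_{p'}` (powers of `y`).  If `y_p ≠ 1` then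
`C(y) ≤ C(y_p) ≤ M` by (c).  Otherwise `y` is a `p'`-element of `M`, so commutes with `P`;
then `P ≤ C(y)` is the Sylow `p`-subgroup of the nilpotent group `C(y)`, and `z ∈ Z(P)` is central in
`C(y)`: `C(y) ≤ C(z) = M`. -/
theorem isBlock_centralizer [Finite G] (h : TIC G) (hCN : Cfsg.IsCNGroup G) {p : ℕ}
    [Fact p.Prime] (P : Sylow p G) {z : G} (hzP : z ∈ P) (hz1 : z ≠ 1)
    (hzc : ∀ u ∈ P, u * z = z * u) : IsBlock (centralizer ({z} : Set G)) := by
  exact Cfsg.Agent.Helper89.TICent.isBlock_centralizer h hCN P hzP hz1 hzc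

/-- (B2) Every non-identity element lies in a block.
Take a prime `p ∣ orderOf x` and `x' = x ^ (orderOf x / p)` of order `p`; `C(x) ≤ C(x')`, nilpotent.
Let `P₀` be the Sylow `p`-subgroup of `C(x')`, `P ≥ P₀` a Sylow `p`-subgroup of `G`, `1 ≠ z ∈ Z(P)`.
Then `z ∈ C(x')`, so `z ∈ P₀`, and `z` commutes with `P₀ ≤ P` and with the `p'`-part of `C(x')`, i.e.
`C(x') ≤ C(z)`; `C(z)` is a block by (B1) `hB1`, and `x ∈ C(x) ≤ C(x') ≤ C(z)`. -/
theorem exists_block [Finite G] (hCN : Cfsg.IsCNGroup G)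
    (hB1 : ∀ (p : ℕ) [Fact p.Prime] (P : Sylow p G) (z : G), z ∈ P → z ≠ 1 →
      (∀ u ∈ P, u * z = z * u) → IsBlock (centralizer ({z} : Set G)))
    {x : G} (hx : x ≠ 1) : ∃ M : Subgroup G, IsBlock M ∧ x ∈ M := by
  exact Cfsg.Agent.Helper42.TICent.exists_block hCN hB1 hx

/-- (B3) Two blocks sharing a non-identity element are equal.
`M₂` is nilpotent and non-trivial, so has `1 ≠ z₂ ∈ Z(M₂)`; `z₂ ∈ C(x) ≤ M₁`, and then
`M₂ ≤ C(z₂) ≤ M₁`.  Symmetrically `M₁ ≤ M₂`. -/
theorem IsBlock.eq_of_mem {M₁ M₂ : Subgroup G} (h₁ : IsBlock M₁) (h₂ : IsBlock M₂) {x : G}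
    (hx1 : x ≠ 1) (hx₁ : x ∈ M₁) (hx₂ : x ∈ M₂) : M₁ = M₂ := by
  exact Cfsg.Agent.Helper9.TICent.IsBlock.eq_of_mem h₁ h₂ hx1 hx₁ hx₂

/-- (B4) Conjugates of blocks are blocks. -/
theorem IsBlock.conj {M : Subgroup G} (hM : IsBlock M) (g : G) :
    IsBlock (M.map (MulAut.conj g).toMonoidHom) := by
  exact Cfsg.Agent.Helper9.TICent.IsBlock.conj hM g

/-- (B5) Blocks are T.I. subgroups.  If `1 ≠ k ∈ M` and `g k g⁻¹ ∈ M`, then `g k g⁻¹` lies in the
blocks `M` and `g M g⁻¹` (B4), which are therefore equal (B3): `g ∈ N(M)`. -/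
theorem IsBlock.ti {M : Subgroup G} (hM : IsBlock M) : Cfsg.IsTISubset (M : Set G) := by
  exact Cfsg.Agent.Helper34.TICent.IsBlock.ti hM

/-- (B6) Blocks are Hall subgroups.  Suppose a prime `r` divides `|M|` and `|G : M|`.  Take
`y ∈ M` of order `r`, a Sylow `r`-subgroup `R` of `G` containing `y`, and `1 ≠ w ∈ Z(R)`.
Then `w ∈ C(y) ≤ M`, so `R ≤ C(w) ≤ M`, and `r ∤ |G : M|`.  (No nilpotency needed.) -/
theorem IsBlock.coprime [Finite G] {M : Subgroup G} (hM : IsBlock M) :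
    (Nat.card M).Coprime M.index := by
  exact Cfsg.Agent.Helper34.TICent.IsBlock.coprime hM

/-- (B7) A non-trivial abelian normal subgroup forces a normal block.
Take `1 ≠ y ∈ K` and a block `M ∋ y` (`hex`); `K ≤ C(y) ≤ M`.  For `g : G`, `g y g⁻¹ ∈ K ≤ M` lies
in `M` and in the block `g M g⁻¹`, so these are equal (B3, B4): `M` is normal. -/
theorem exists_normal_block (hex : ∀ x : G, x ≠ 1 → ∃ M : Subgroup G, IsBlock M ∧ x ∈ M)
    (K : Subgroup G) [K.Normal] (hK1 : K ≠ ⊥) (hKab : ∀ a ∈ K, ∀ b ∈ K, a * b = b * a) :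
    ∃ M : Subgroup G, IsBlock M ∧ M.Normal := by
  exact Cfsg.Agent.Helper67.TICent.exists_normal_block hex K hK1 hKab

/-- (SOLV) A non-trivial finite solvable group has a non-trivial abelian normal subgroup
(the last non-trivial term of the derived series). -/
theorem exists_abelian_normal [Finite G] [Nontrivial G] (hs : Group.IsSolvable G) :
    ∃ K : Subgroup G, K.Normal ∧ K ≠ ⊥ ∧ ∀ a ∈ K, ∀ b ∈ K, a * b = b * a := by
  exact Cfsg.Agent.Helper60.TICent.exists_abelian_normal hs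

/-- (F1) A proper normal block has a complement, which is a Frobenius complement.
`M` is a normal Hall subgroup (B6), so has a complement `E`
(`Subgroup.exists_left_complement'_of_coprime`); `E ≠ ⊥` as `M ≠ ⊤`, `E ≠ ⊤` as `M ≠ ⊥`.  For
`g ∉ E` write `g = m e` with `1 ≠ m ∈ M`, `e ∈ E`; if `y = m y' m⁻¹ ∈ E ∩ m E m⁻¹` with `y' ∈ E` then
`y'⁻¹ y ∈ M ∩ E = 1` (`M` normal), so `y` commutes with `m ≠ 1`, hence `y ∈ M ∩ E = 1`
(`IsBlock.mem_of_commute`). -/
theorem exists_frobeniusComplement_of_normal_block [Finite G] {M : Subgroup G} (hM : IsBlock M)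
    (hMn : M.Normal) (hMtop : M ≠ ⊤) : ∃ E : Subgroup G, Cfsg.IsFrobeniusComplement E := by
  exact Cfsg.Agent.Helper65.TICent.exists_frobeniusComplement_of_normal_block hM hMn hMtop

/-- (F2) A Frobenius complement of a Frobenius complement is a Frobenius complement.
For `g ∉ E`: `H' ∩ g H' g⁻¹ ≤ E ∩ g E g⁻¹ = 1`.  For `g ∈ E` not in the image of `H`: use `hH`. -/
theorem isFrobeniusComplement_map_subtype {E : Subgroup G} (hE : Cfsg.IsFrobeniusComplement E)
    {H : Subgroup E} (hH : Cfsg.IsFrobeniusComplement H) :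
    Cfsg.IsFrobeniusComplement (H.map E.subtype) := by
  exact Cfsg.Agent.Helper60.TICent.isFrobeniusComplement_map_subtype hE hH

/-- (F3) A proper self-normalizing block is a Frobenius complement (B5). -/
theorem IsBlock.isFrobeniusComplement {M : Subgroup G} (hM : IsBlock M) (hMtop : M ≠ ⊤)
    (hN : normalizer (M : Set G) ≤ M) : Cfsg.IsFrobeniusComplement M := by
  exact Cfsg.Agent.Helper67.TICent.IsBlock.isFrobeniusComplement hM hMtop hN

end Cfsg.Agent.Helper95.TICent
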