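import Mathlib
import Cfsg.Agent.Helper95.TIC.Defs
import Cfsg.Agent.Helper95.FrobCompl6
import Cfsg.Agent.Helper73.PGroupCyclic
import Cfsg.Agent.Helper9.CNSolv2
import Cfsg.Agent.Helper42.TIC_FCU
import Cfsg.Agent.Helper75.TIC_FCP
import Cfsg.Agent.Helper65.TIC_FCQ
import Cfsg.Agent.Helper87.TIC_FCD
import Cfsg.Agent.Helper53.TIC_FCE
import Cfsg.Agent.Helper53.TIC_PSL

/-!
# S4064 (helper95): batch 2 pieces, wired to the files of the helpers who proved them
-/

set_option autoImplicit false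

namespace Cfsg.Agent.Helper95.TICent

open Subgroup Cfsg.Agent.Helper95.FrobCompl

/-- (FCU) Universe-polymorphic form of `Helper95.FrobCompl.fclike_of_frobenius_complement`
(`Cfsg/Agent/Helper95/FrobCompl6.lean`, where `L : Type`): copy that proof with `G := H` and
`e := MulEquiv.refl _`; everything it cites (`Cfsg.Agent.S0035.result`, `fclike_of_fpf`,
`FCLike.of_equiv`) is universe polymorphic. -/
theorem fclike_of_isFrobeniusComplement {L : Type*} [Group L] [Finite L] (H : Subgroup L)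
    (hH : Cfsg.IsFrobeniusComplement H) : FCLike H := by
  exact Cfsg.Agent.Helper42.TICent.fclike_of_isFrobeniusComplement H hH

/-- (FCP) A nilpotent `FCLike` group has at most one subgroup of each prime order.
Let `x, y` have order `r`, `R` the (normal, unique) Sylow `r`-subgroup; `x, y ∈ R`; take `z ∈ Z(R)` of
order `r`.  `closure {z, x}` is an abelian `r`-group, hence cyclic by `hF.abel`, so has a unique
subgroup of order `r`: `zpowers x = zpowers z`; likewise for `y`
(see `Cfsg.Agent.Helper24.Zas.AbelR.mem_zpowers_of_comm` in `Helper24/ZasOdd.lean`). -/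
theorem uniqueOrderP_of_fclike {E : Type*} [Group E] [Finite E] (hnil : Group.IsNilpotent E)
    (hF : FCLike E) (r : ℕ) (hr : r.Prime) : Cfsg.Agent.Helper73.UniqueOrderP r E := by
  exact Cfsg.Agent.Helper75.TICent.uniqueOrderP_of_fclike hnil hF r hr

/-- (FCQ) A `TIC`-group contains no generalized quaternion group of order `≥ 16`.
With `a = f (QuaternionGroup.a 1)`, `b = f (QuaternionGroup.xa 0)`, `y = b * b = a ^ (2 ^ n) ≠ 1`:
`y ∈ C(b)` and `a y a⁻¹ = y ∈ C(b)`, so `a ∈ N(C(b))` (`TIC.mem_normalizer`), hence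
`a b a⁻¹ ∈ C(b)`, i.e. `a b a⁻¹ = xa (-2)`-image commutes with `b`, which forces `a ^ 4 = 1`;
but `a` has order `2 * 2 ^ n ≥ 8`. -/
theorem no_big_quaternion {H : Type*} [Group H] (h : TIC H) {n : ℕ} (hn : 2 ≤ n)
    (f : QuaternionGroup (2 ^ n) →* H) (hf : Function.Injective f) : False := by
  exact Cfsg.Agent.Helper65.TICent.no_big_quaternion h hn f hf

/-- (FCD) Internal direct product of a cyclic group of odd order and `Q₈`. -/
theorem nonempty_mulEquiv_prod {H : Type*} [Group H] [Finite H] (C Q : Subgroup H)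
    (hsup : C ⊔ Q = ⊤) (hcomm : ∀ a ∈ C, ∀ b ∈ Q, a * b = b * a) (hC : IsCyclic C)
    (hodd : Odd (Nat.card C)) (e : Q ≃* QuaternionGroup 2) :
    Nonempty (H ≃* Multiplicative (ZMod (Nat.card C)) × QuaternionGroup 2) := by
  exact Cfsg.Agent.Helper87.TICent.nonempty_mulEquiv_prod C Q hsup hcomm hC hodd e

/-- (FCE) Nilpotent, unique subgroups of prime order, no `Q_{2^k}` with `k ≥ 4`: cyclic or
`Z_m × Q₈`.  Use `Cfsg.Agent.Helper9.cyclic_or_cq_of_uniqueOrderP` (which gives `C`, `Q`,
`Q ≃* QuaternionGroup (2 ^ n)`): `n ≥ 2` contradicts `hQ` (with `f = Q.subtype ∘ e.symm`), `n = 1`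
is `hD` (this is (FCD)), and for `n = 0` the group `QuaternionGroup 1` is cyclic of order `4`, so
all Sylow subgroups of `H` are cyclic and `Cfsg.Agent.Helper9.isCyclic_of_nilpotent_of_sylow_cyclic`
applies (or redo the case split with `Cfsg.Agent.Helper73.cyclic_or_quaternion`, which has
`1 ≤ n`). -/
theorem cyclic_or_cq8 {H : Type*} [Group H] [Finite H] (hnil : Group.IsNilpotent H)
    (hU : ∀ r : ℕ, r.Prime → Cfsg.Agent.Helper73.UniqueOrderP r H)
    (hQ : ∀ n : ℕ, 2 ≤ n → ∀ f : QuaternionGroup (2 ^ n) →* H, ¬ Function.Injective f)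
    (hD : ∀ C Q : Subgroup H, C ⊔ Q = ⊤ → (∀ a ∈ C, ∀ b ∈ Q, a * b = b * a) → IsCyclic C →
      Odd (Nat.card C) → (Q ≃* QuaternionGroup 2) →
      Nonempty (H ≃* Multiplicative (ZMod (Nat.card C)) × QuaternionGroup 2)) :
    IsCyclic H ∨ ∃ m : ℕ, Odd m ∧
      Nonempty (H ≃* Multiplicative (ZMod m) × QuaternionGroup 2) := by
  exact Cfsg.Agent.Helper53.TICent.cyclic_or_cq8 hnil hU hQ hD

/-- (PSL) `PSL₂(F)`, `F` of characteristic `2`, is not `FCLike`: the images of
`!![1, 1; 0, 1]` and `!![1, 0; 1, 1]` are two distinct involutions, contradicting `FCLike.invol`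
(an element of `SL₂(F)` is in the centre iff it is scalar). -/
theorem not_fclike_psl {F : Type*} [Field F] [CharP F 2] :
    ¬ FCLike (Matrix.ProjectiveSpecialLinearGroup (Fin 2) F) := by
  exact Cfsg.Agent.Helper53.TICent.not_fclike_psl

end Cfsg.Agent.Helper95.TICent
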