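import Mathlib
import Cfsg.Agent.Helper95.TIC.SE5
import Cfsg.Agent.Helper56.PSLCongr

/-!
# S4064 (helper95): double transitivity on `G ⧸ N` (hedge for piece Z2T)
-/

set_option autoImplicit false

namespace Cfsg.Agent.Helper95.TICent.Hedge

open Subgroup Cfsg Cfsg.Agent.Helper75 Cfsg.Agent.Helper21 Cfsg.Agent.Helper4

universe u

variable {G : Type u} [Group G]

/-- `G` is doubly transitive on `G ⧸ N`. -/
theorem two_transitive (c : BData G) [Finite G] (hw : 2 ≤ caE c.A) :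
    MulAction.IsMultiplyPretransitive G (G ⧸ c.N) 2 := by
  obtain ⟨u, hu, huN⟩ := c.exists_u
  apply Cfsg.Agent.Helper56.PSLCongr.two_transitive_of_double_coset c.N u
  intro g
  by_cases hg : g ∈ c.N
  · exact Or.inl hg
  · right
    obtain ⟨v, hv2, hvg, hvN⟩ := IsStronglyEmbedded.exists_invol_coset c.stronglyEmbedded hg
    obtain ⟨x, hx, hxv⟩ := c.exists_coset hu huN hv2 hvN hw
    refine ⟨x, c.A_le_N hx, (x * u)⁻¹ * v * (g⁻¹ * v)⁻¹, c.N.mul_mem hxv (c.N.inv_mem hvg), ?_⟩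
    group

end Cfsg.Agent.Helper95.TICent.Hedge
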