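import Mathlib
import Cfsg.Agent.Helper95.TIC.Defs
import Cfsg.Agent.Helper95.TIC.SE5
import Cfsg.Agent.Helper95.SzOrd.Main
import Cfsg.Agent.Helper56.PSLCongr
import Cfsg.Agent.S1230
import Cfsg.Agent.S3375
import Cfsg.Agent.Helper65.TIC_ZR
import Cfsg.Agent.Helper95.TIC.Z2T
import Cfsg.Agent.Helper67.TIC_ZST
import Cfsg.Agent.Helper63.TIC_ZP
import Cfsg.Agent.Helper63.TIC_ZX
import Cfsg.Agent.Helper65.TIC_ZAS
import Cfsg.Agent.Helper50.TIC_ZK
import Cfsg.Agent.Helper60.TIC_ZE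
import Cfsg.Agent.Helper60.TIC_ZG

/-!
# S4064 (helper95): batch 3 pieces, wired to the files of the helpers who proved them
-/

set_option autoImplicit false

namespace Cfsg.Agent.Helper95.TICent

open Subgroup Cfsg Cfsg.Agent.Helper75 Cfsg.Agent.Helper21 Cfsg.Agent.Helper4

universe u

variable {G : Type u} [Group G]

/-- (ZR) `A` acts regularly on the cosets different from `N`.
Each coset `≠ N` contains an involution `v ∉ N` (`exists_invol_coset`); existence is
`c.exists_coset`; uniqueness: `x₁ v N = x₂ v N` gives `x₁⁻¹ x₂ ∈ A ∩ D_v = 1` (`c.Dsub_inf_A`), exactly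
as in the injectivity part of `BData.index_N` (`SE4.lean`). -/
theorem BData.regular (c : BData G) [Finite G] (hw : 2 ≤ caE c.A) :
    ∀ y z : G ⧸ c.N, y ≠ ((1 : G) : G ⧸ c.N) → z ≠ ((1 : G) : G ⧸ c.N) →
      ∃! x : c.A, (x : G) • y = z := by
  exact Cfsg.Agent.Helper65.TICent.BData.regular c hw

/-- (Z2T) `G` is doubly transitive on `G ⧸ N`: by `c.exists_coset` and `exists_invol_coset`,
`G = N ∪ N u N` for an involution `u ∉ N`; apply
`Cfsg.Agent.Helper56.PSLCongr.two_transitive_of_double_coset`. -/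
theorem BData.two_transitive (c : BData G) [Finite G] (hw : 2 ≤ caE c.A) :
    MulAction.IsMultiplyPretransitive G (G ⧸ c.N) 2 := by
  exact Cfsg.Agent.Helper95.TICent.Hedge.two_transitive c hw

/-- (Z3P) Three-point stabilizers are trivial.  By double transitivity (`h2`) we may assume the
first two points are `N` and `u N`, so `g ∈ D_u`, and the third is `x u N` with `1 ≠ x ∈ A` (ZR /
`c.exists_coset`).  Then `x⁻¹ g x ∈ N ∩ u N u⁻¹ = D_u`, so `g⁻¹ (x⁻¹ g x) ∈ D_u ∩ A = 1`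
(`c.Dsub_inf_A`; `g⁻¹ x⁻¹ g ∈ A` as `g ∈ N`), i.e. `x` commutes with `g`, and
`c.eq_one_of_commute_Dsub` forces `g = 1`. -/
theorem BData.three_point (c : BData G) [Finite G] (hw : 2 ≤ caE c.A)
    (h2 : MulAction.IsMultiplyPretransitive G (G ⧸ c.N) 2) :
    ∀ g : G, ∀ p q r : G ⧸ c.N, p ≠ q → q ≠ r → p ≠ r → g • p = p → g • q = q → g • r = r →
      g = 1 := by
  exact Cfsg.Agent.Helper67.TICent.BData.three_point c hw h2

/-- (ZST) The stabilizer of the two points `N`, `u N` is `D_u`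
(`MulAction.stabilizer_quotient`, `MulAction.stabilizer_smul_eq_stabilizer_map_conj`). -/
theorem BData.stabilizer_inf (c : BData G) (u : G) :
    MulAction.stabilizer G ((1 : G) : G ⧸ c.N) ⊓ MulAction.stabilizer G ((u : G) : G ⧸ c.N)
      = c.Dsub u := by
  exact Cfsg.Agent.Helper67.TICent.BData.stabilizer_inf c u

/-- (ZK) No non-trivial normal subgroup meets `A` trivially.  If `K ⊓ A = ⊥` then conjugation by
`t` is an automorphism of `K` of order `2` fixing only `1` (a fixed point lies in `C(t) ≤ A`), so `K`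
is abelian (`Cfsg.Agent.S3375.result`, part (i)); if `K ≠ ⊥` then `hB7` gives a normal block,
contradicting `hA`. -/
theorem no_normal_disjoint [Finite G]
    (hB7 : ∀ K : Subgroup G, K.Normal → K ≠ ⊥ → (∀ a ∈ K, ∀ b ∈ K, a * b = b * a) →
      ∃ M : Subgroup G, IsBlock M ∧ M.Normal)
    (hA : ¬ ∃ M : Subgroup G, IsBlock M ∧ M.Normal) (A : Subgroup G) {t : G}
    (ht : orderOf t = 2) (hC : centralizer ({t} : Set G) ≤ A) :
    ∀ K : Subgroup G, K.Normal → K ⊓ A = ⊥ → K = ⊥ := by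
  exact Cfsg.Agent.Helper50.TICent.no_normal_disjoint hB7 hA A ht hC

/-- (ZAS) Assembly of the Zassenhaus property.  Faithful: an element acting trivially fixes three
distinct points (`c.index_N`: there are `|A| + 1 ≥ 3` points).  A non-identity element of `D_u`
(`c.exists_ne_one_Dsub`) fixes the two points `N`, `u N`.  A normal subgroup `K` that is transitive
with trivial point stabilizers has `K ⊓ A ≤ K ∩ N = ⊥`, so `K = ⊥` by `hK`, which is not
transitive. -/
theorem BData.isZassenhaus (c : BData G) [Finite G] (hw : 2 ≤ caE c.A)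
    (h2 : MulAction.IsMultiplyPretransitive G (G ⧸ c.N) 2)
    (h3 : ∀ g : G, ∀ p q r : G ⧸ c.N, p ≠ q → q ≠ r → p ≠ r → g • p = p → g • q = q →
      g • r = r → g = 1)
    (hK : ∀ K : Subgroup G, K.Normal → K ⊓ c.A = ⊥ → K = ⊥) :
    Cfsg.IsZassenhausGroup G (G ⧸ c.N) := by
  exact Cfsg.Agent.Helper65.TICent.BData.isZassenhaus c hw h2 h3 hK

/-- (ZE) If `|A| - 1 ≤ 2 |N : A|` then `A` has exponent `2`.  `V = {x ∈ A | x ^ 2 = 1}` is a
subgroup (its non-identity elements are involutions, central in `A` by `c.invol_comm`) of order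
`caE c.A + 1` (`c.card_invol_A`), dividing `|A| ≤ 2 * caE c.A + 1 < 2 |V|`; so `V = A`. -/
theorem BData.sq_eq_one (c : BData G) [Finite G] (hw : 2 ≤ caE c.A)
    (hh : Nat.card c.A - 1 ≤ 2 * caE c.A) : ∀ x ∈ c.A, x ^ 2 = 1 := by
  exact Cfsg.Agent.Helper60.TICent.BData.sq_eq_one c hw hh

/-- (ZG) `PSL₂` of a field with `2 ^ n` elements is `PSL₂ (GaloisField 2 n)`
(`charP_of_card_eq_prime_pow`/`ZMod.algebra`, `GaloisField.algEquivGaloisField`,
`Cfsg.Agent.Helper56.PSLCongr.pslCongr`). -/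
theorem psl_galois {F : Type} [Field F] [Fintype F] {n : ℕ} (hn : n ≠ 0)
    (hF : Fintype.card F = 2 ^ n) :
    Nonempty (Matrix.ProjectiveSpecialLinearGroup (Fin 2) F ≃*
      Matrix.ProjectiveSpecialLinearGroup (Fin 2) (GaloisField 2 n)) := by
  exact Cfsg.Agent.Helper60.TICent.psl_galois hn hF

/-- (ZP) Identification in the elementary abelian case via `Cfsg.Agent.S1230.result`.
`A` is a `2`-group of odd index, so `A = T` for a Sylow `2`-subgroup `T`; `T` is not cyclic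
(exponent `2`, order `≥ 4`) and not normal.  An involution `s` is conjugate to some `a ∈ A`
(Sylow), and `C(a) = A` (`hC`, and `A` is abelian having exponent `2`), so `C(s)` is a conjugate of
`A`: abelian of exponent `2`.  Then `G ≅ PSL₂(F)`, `|F| = |A| = 2 ^ n`, `n ≥ 2`; finish with `hG`
(this is (ZG)). -/
theorem psl_of_elemAb [Finite G] (A : Subgroup G)
    (hC : ∀ k ∈ A, k ≠ 1 → centralizer ({k} : Set G) ≤ A) (hsq : ∀ x ∈ A, x ^ 2 = 1)
    (hodd : Odd A.index) (h4 : 4 ≤ Nat.card A) (hnn : ¬ A.Normal)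
    (hG : ∀ (F : Type) [Field F] [Fintype F] (n : ℕ), n ≠ 0 → Fintype.card F = 2 ^ n →
      Nonempty (Matrix.ProjectiveSpecialLinearGroup (Fin 2) F ≃*
        Matrix.ProjectiveSpecialLinearGroup (Fin 2) (GaloisField 2 n))) :
    ∃ n : ℕ, 2 ≤ n ∧
      Nonempty (G ≃* Matrix.ProjectiveSpecialLinearGroup (Fin 2) (GaloisField 2 n)) := by
  exact Cfsg.Agent.Helper63.TICent.psl_of_elemAb A hC hsq hodd h4 hnn hG

/-- (ZX) The Suzuki configuration is incompatible with `TIC`.
`Cfsg.Agent.Helper95.SzOrd.suzuki_main hZT hab` gives `q n`, `F : ZTFacts a b Q q n`,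
`Nat.card Q = q ^ 2`.  Take `x ∈ Q` non-central (`hZT.nonab`); `C := C_G(x) ≤ Q` (`hcent`) is a
`2`-group with `Zs Q < C < Q`, so `|C| = q * 2 ^ j`, `0 < j`, `2 ^ j < q`.  Every
`k ∈ Kab G a b` normalizes `C`: `k` normalizes `Zs Q ≤ C` (it normalizes `Q` by `hZT.Qnorm`), so
`TIC.mem_normalizer` applies with `1 ≠ z ∈ Zs Q` (`F.card_Zs`, `q ≥ 4`).  `Kab G a b` acts by
conjugation on `C \ Zs Q` with trivial stabilizers (`F.K_fpf`), so `q - 1 = |Kab|` (`F.card_K`) divides
`|C| - q = q (2 ^ j - 1)`, hence `q - 1 ∣ 2 ^ j - 1`, contradicting `0 < 2 ^ j - 1 < q - 1`. -/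
theorem suzuki_excluded {Ω : Type*} [Finite G] [MulAction G Ω] [Fintype Ω] (h : TIC G)
    {a b : Ω} (hab : a ≠ b) {Q : Subgroup G} (hZT : Cfsg.Agent.Helper95.SzOrd.ZT a Q)
    (hcent : ∀ x ∈ Q, x ≠ 1 → centralizer ({x} : Set G) ≤ Q) : False := by
  exact Cfsg.Agent.Helper63.TICent.suzuki_excluded h hab hZT hcent

end Cfsg.Agent.Helper95.TICent
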