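import Mathlib
import Cfsg.Agent.Helper95.TIC.Pieces1
import Cfsg.Agent.Helper95.TIC.Pieces2
import Cfsg.Agent.Helper95.TIC.Pieces3
import Cfsg.Agent.S0183
import Cfsg.Agent.S0338
import Cfsg.Agent.S0885

/-!
# S4064 (helper95): assembly
-/

set_option autoImplicit false

namespace Cfsg.Agent.Helper95.TICent

open Subgroup Cfsg Cfsg.Agent.Helper75 Cfsg.Agent.Helper21 Cfsg.Agent.Helper4
open Cfsg.Agent.Helper95.FrobCompl

universe u

section Basic

variable {G : Type u} [Group G]

/-- A finite `TIC`-group is a CN-group. -/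
theorem TIC.cn [Finite G] (h : TIC G) : Cfsg.IsCNGroup G := by
  intro g hg
  have hT := h.subgroup (centralizer ({g} : Set G))
  have hgm : g ∈ centralizer ({g} : Set G) := Subgroup.mem_centralizer_singleton_iff.mpr rfl
  refine TIC.nilpotent_of_central hT (z := ⟨g, hgm⟩) ?_ ?_
  · intro h1
    exact hg (congrArg Subtype.val h1)
  · intro x
    apply Subtype.ext
    exact Subgroup.mem_centralizer_singleton_iff.mp x.2

/-- Every non-identity element of a finite `TIC`-group lies in a block. -/
theorem TIC.exists_block [Finite G] (h : TIC G) {x : G} (hx : x ≠ 1) :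
    ∃ M : Subgroup G, IsBlock M ∧ x ∈ M :=
  _root_.Cfsg.Agent.Helper95.TICent.exists_block h.cn (fun _ _ P _ hzP hz1 hzc => isBlock_centralizer h h.cn P hzP hz1 hzc) hx

/-- A nilpotent Frobenius complement in a finite `TIC`-group is cyclic or `Z_m × Q₈`. -/
theorem nilpotent_frobeniusComplement [Finite G] (h : TIC G) {H : Subgroup G}
    (hH : Cfsg.IsFrobeniusComplement H) (hnil : Group.IsNilpotent H) :
    IsCyclic H ∨ ∃ m : ℕ, Odd m ∧
      Nonempty (H ≃* Multiplicative (ZMod m) × QuaternionGroup 2) := by
  have hF := fclike_of_isFrobeniusComplement H hH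
  have hT : TIC H := h.subgroup H
  exact cyclic_or_cq8 hnil (fun r hr => uniqueOrderP_of_fclike hnil hF r hr)
    (fun n hn f hf => no_big_quaternion hT hn f hf)
    (fun C Q hsup hcomm hC hodd e => nonempty_mulEquiv_prod C Q hsup hcomm hC hodd e)

end Basic

section CaseC

variable {G : Type u} [Group G] [Finite G]

/-- The case in which no block is normal or self-normalizing. -/
theorem caseC (h : TIC G) (hnil : ¬ Group.IsNilpotent G)
    (hA : ¬ ∃ M : Subgroup G, IsBlock M ∧ M.Normal)
    (hB : ¬ ∃ M : Subgroup G, IsBlock M ∧ normalizer (M : Set G) ≤ M) :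
    ∃ n : ℕ, 2 ≤ n ∧
      Nonempty (G ≃* Matrix.ProjectiveSpecialLinearGroup (Fin 2) (GaloisField 2 n)) := by
  classical
  have hCN := h.cn
  have hex : ∀ x : G, x ≠ 1 → ∃ M : Subgroup G, IsBlock M ∧ x ∈ M :=
    fun x hx => h.exists_block hx
  have hB7 : ∀ K : Subgroup G, K.Normal → K ≠ ⊥ → (∀ a ∈ K, ∀ b ∈ K, a * b = b * a) →
      ∃ M : Subgroup G, IsBlock M ∧ M.Normal := by
    intro K hKn hK1 hKab
    haveI := hKn
    exact exists_normal_block hex K hK1 hKab
  -- `G` is non-trivial
  have hnt : Nontrivial G := by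
    by_contra hnt
    rw [not_nontrivial_iff_subsingleton] at hnt
    exact hnil inferInstance
  -- `|G|` is even
  have heven : Even (Nat.card G) := by
    by_contra hodd
    rw [Nat.not_even_iff_odd] at hodd
    have hs := Cfsg.Agent.S0183.result hodd hCN
    obtain ⟨K, hKn, hK1, hKab⟩ := exists_abelian_normal hs
    exact hA (hB7 K hKn hK1 hKab)
  -- an involution and its block
  haveI : Fact (Nat.Prime 2) := ⟨Nat.prime_two⟩
  obtain ⟨t, ht⟩ := exists_prime_orderOf_dvd_card' 2 (even_iff_two_dvd.mp heven)
  have ht1 : t ≠ 1 := by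
    intro h1
    rw [h1, orderOf_one] at ht
    omega
  obtain ⟨M, hM, htM⟩ := hex t ht1
  have h2M : 2 ∣ Nat.card M := by
    have := orderOf_dvd_natCard (⟨t, htM⟩ : M)
    rwa [Subgroup.orderOf_mk, ht] at this
  have hodd_idx : Odd M.index := by
    rw [← Nat.not_even_iff_odd, even_iff_two_dvd]
    intro h3
    have h4 := Nat.dvd_gcd h2M h3
    have h5 : Nat.gcd (Nat.card M) M.index = 1 := hM.coprime
    rw [h5] at h4
    omega
  have hN : normalizer (M : Set G) ≠ ⊤ := fun h1 => hA ⟨M, hM, normalizer_eq_top_iff.mp h1⟩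
  let c : BData G := ⟨M, t, ht, htM, hM.cent, hM.ti, hodd_idx, hN⟩
  have hcA : c.A = M := rfl
  have hw : 2 ≤ caE c.A := by
    by_contra hlt
    have h0 : caE c.A ≠ 0 := by
      intro h0
      have := c.odd_caE
      rw [h0] at this
      exact absurd this (by decide)
    have h1 : caE c.A = 1 := by omega
    unfold caE at h1
    rw [Subgroup.index_eq_one, Subgroup.subgroupOf_eq_top] at h1
    exact hB ⟨M, hM, h1⟩
  obtain ⟨u, hu, huN⟩ := c.exists_u
  have h2 := c.two_transitive hw
  have h3 := c.three_point hw h2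
  have hK := no_normal_disjoint hB7 hA M ht (hM.cent t htM ht1)
  have hZ : IsZassenhausGroup G (G ⧸ c.N) := c.isZassenhaus hw h2 h3 hK
  letI : Fintype (G ⧸ c.N) := Fintype.ofFinite _
  have hcard : Fintype.card (G ⧸ c.N) = Nat.card M + 1 := by
    rw [← Nat.card_eq_fintype_card]
    exact c.index_N hw
  have hMeven : Even (Nat.card M) := c.even_card_A
  have hoddΩ : Odd (Fintype.card (G ⧸ c.N)) := by
    rw [hcard]
    exact hMeven.add_one
  have hsimple : IsSimpleGroup G := Cfsg.Agent.S0338.result hZ hoddΩ
  have hab : ((1 : G) : G ⧸ c.N) ≠ ((u : G) : G ⧸ c.N) := by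
    intro h1
    apply huN
    have h4 := QuotientGroup.eq.mp h1
    simpa using h4
  have hreg := c.regular hw
  have hstab : Nat.card ↥(MulAction.stabilizer G ((1 : G) : G ⧸ c.N) ⊓
      MulAction.stabilizer G ((u : G) : G ⧸ c.N) : Subgroup G) = caE c.A := by
    rw [c.stabilizer_inf u]
    exact c.card_Dsub hu huN
  have hstab1 : MulAction.stabilizer G ((1 : G) : G ⧸ c.N) = c.N :=
    MulAction.stabilizer_quotient c.N
  have hHa : M ≤ MulAction.stabilizer G ((1 : G) : G ⧸ c.N) := by
    rw [hstab1]
    exact c.A_le_N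
  have hHfix : ∀ x ∈ M, x ≠ 1 → ∀ p : G ⧸ c.N, x • p = p → p = ((1 : G) : G ⧸ c.N) := by
    intro x hx hx1 p hp
    by_contra hpa
    obtain ⟨y, -, hy⟩ := hreg p p hpa hpa
    have e1 := hy ⟨x, hx⟩ hp
    have e2 := hy ⟨1, M.one_mem⟩ (one_smul _ _)
    exact hx1 (congrArg Subtype.val (e1.trans e2.symm))
  rcases Cfsg.Agent.S0885.result hZ hab (Nat.card M) (caE c.A) hcard hstab c.odd_caE M hHa
    (by rw [hcard]) hHfix with h1 | ⟨h2g, ⟨x, y, hxy⟩, -⟩
  · -- elementary abelian
    have hsq := c.sq_eq_one hw h1
    have h4 : 4 ≤ Nat.card M := by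
      have h5 := c.card_invol_A
      have h6 := c.three_le_caE hw
      let f : Option {s : G // orderOf s = 2 ∧ s ∈ c.A} → M := fun o =>
        match o with
        | none => 1
        | some s => ⟨s.1, s.2.2⟩
      have hf : Function.Injective f := by
        intro o₁ o₂ h12
        match o₁, o₂, h12 with
        | none, none, _ => rfl
        | none, some s, h12 =>
          exfalso
          have h7 : (1 : G) = s.1 := congrArg (Subtype.val : M → G) h12
          have h8 := s.2.1
          rw [← h7, orderOf_one] at h8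
          omega
        | some s, none, h12 =>
          exfalso
          have h7 : s.1 = (1 : G) := congrArg (Subtype.val : M → G) h12
          have h8 := s.2.1
          rw [h7, orderOf_one] at h8
          omega
        | some s₁, some s₂, h12 =>
          have h7 : s₁.1 = s₂.1 := congrArg (Subtype.val : M → G) h12
          exact congrArg some (Subtype.ext h7)
      have h9 := Nat.card_le_card_of_injective f hf
      rw [Finite.card_option, h5] at h9
      omega
    exact psl_of_elemAb M hM.cent hsq hodd_idx h4 (fun hn => hA ⟨M, hM, hn⟩)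
      (fun F _ _ n hn hF => psl_galois hn hF)
  · -- the Suzuki configuration
    exfalso
    have hZT : Cfsg.Agent.Helper95.SzOrd.ZT ((1 : G) : G ⧸ c.N) M :=
      { hZ := hZ
        simple := hsimple
        Qle := hHa
        Qnorm := by
          intro g hg v hv
          rw [hstab1] at hg
          exact c.conj_mem_A hg hv
        reg := hreg
        two := h2g
        nonab := ⟨x.1, x.2, y.1, y.2, fun h12 => hxy (Subtype.ext h12)⟩ }
    exact suzuki_excluded h hab hZT hM.cent

end CaseC

section Main

/-- A subgroup equal to `⊤` which is nilpotent makes the group nilpotent. -/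
theorem isNilpotent_of_top {G : Type u} [Group G] {M : Subgroup G} (hM : Group.IsNilpotent M)
    (h : M = ⊤) : Group.IsNilpotent G := by
  subst h
  haveI := hM
  exact Group.nilpotent_of_surjective (Subgroup.topEquiv (G := G)).toMonoidHom
    (Subgroup.topEquiv (G := G)).surjective

/-- S4064 by strong induction on the order. -/
theorem main_aux : ∀ (n : ℕ) (G : Type u) [Group G] [Finite G], Nat.card G = n → TIC G →
    Conclusion G := by
  intro n
  induction n using Nat.strong_induction_on with
  | _ n ih =>
    intro G _ _ hn h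
    by_cases hnil : Group.IsNilpotent G
    · exact Or.inl hnil
    by_cases hA : ∃ M : Subgroup G, IsBlock M ∧ M.Normal
    · obtain ⟨M, hM, hMn⟩ := hA
      have hMtop : M ≠ ⊤ := fun h1 => hnil (isNilpotent_of_top hM.nil h1)
      obtain ⟨E, hE⟩ := exists_frobeniusComplement_of_normal_block hM hMn hMtop
      have hTE : TIC E := h.subgroup E
      have hlt : Nat.card E < n := by
        rw [← hn]
        exact lt_of_le_of_ne (Subgroup.card_le_card_group E)
          (fun h0 => hE.2.1 ((Subgroup.card_eq_iff_eq_top E).mp h0))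
      rcases ih (Nat.card E) hlt E rfl hTE with h1 | ⟨H, hH, hstr⟩ | ⟨m, hm, ⟨e⟩⟩
      · right; left
        exact ⟨E, hE, nilpotent_frobeniusComplement h hE h1⟩
      · right; left
        refine ⟨H.map E.subtype, isFrobeniusComplement_map_subtype hE hH, ?_⟩
        let φ := H.equivMapOfInjective E.subtype E.subtype_injective
        rcases hstr with hc | ⟨m, hm, ⟨e⟩⟩
        · left
          exact isCyclic_of_surjective φ φ.surjective
        · right
          exact ⟨m, hm, ⟨φ.symm.trans e⟩⟩
      · exfalso
        have hF := fclike_of_isFrobeniusComplement E hE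
        exact not_fclike_psl (FCLike.of_equiv e.symm hF)
    by_cases hB : ∃ M : Subgroup G, IsBlock M ∧ normalizer (M : Set G) ≤ M
    · obtain ⟨M, hM, hMN⟩ := hB
      have hMtop : M ≠ ⊤ := fun h1 => hnil (isNilpotent_of_top hM.nil h1)
      right; left
      exact ⟨M, hM.isFrobeniusComplement hMtop hMN,
        nilpotent_frobeniusComplement h (hM.isFrobeniusComplement hMtop hMN) hM.nil⟩
    · right; right
      exact caseC h hnil hA hB

/-- S4064. -/
theorem main {G : Type u} [Group G] [Finite G] (h : TIC G) : Conclusion G :=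
  main_aux (Nat.card G) G rfl h

end Main

end Cfsg.Agent.Helper95.TICent
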